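import Groth.Agent.Cones.Proj
import Groth.Agent.DimFormula.Field
import Mathlib.RingTheory.Ideal.KrullsHeightTheorem
import Mathlib.RingTheory.GradedAlgebra.Radical

/-!
Cutting an irreducible closed subset of projective space by homogeneous equations.
-/

set_option autoImplicit false
set_option linter.unusedSectionVars false
set_option linter.style.haveILetI false
set_option backward.isDefEq.respectTransparency false
universe u

open MvPolynomial AlgebraicGeometry

noncomputable section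

namespace Groth.Agent.ProjCut

open Cones

variable {K : Type u} [Field K] {m : ℕ}

local notation "𝒜" => CohB1.polyGrading m K
local notation "S" => MvPolynomial (Fin (m + 1)) K
local notation "PS" => ProjectiveSpectrum (CohB1.polyGrading m K)

lemma le_of_add_one {a b : WithBot ℕ∞} (h : a + 1 ≤ b + 1) : a ≤ b := by
  induction a with
  | bot => exact bot_le
  | coe a =>
    induction b with
    | bot =>
      rw [WithBot.bot_add, ← WithBot.coe_one, ← WithBot.coe_add] at h
      exact absurd h (WithBot.not_coe_le_bot _)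
    | coe b =>
      rw [← WithBot.coe_one, ← WithBot.coe_add, ← WithBot.coe_add, WithBot.coe_le_coe] at h
      exact WithBot.coe_le_coe.2 ((ENat.add_le_add_iff_right ENat.one_ne_top).1 h)

/-- A minimal prime of a homogeneous ideal is homogeneous. -/
lemma isHomogeneous_of_minimal {I Q : Ideal S} (hI : I.IsHomogeneous 𝒜) (hQ : Q ∈ I.minimalPrimes) :
    Q.IsHomogeneous 𝒜 := by
  haveI := hQ.1.1
  have h1 : (Q.homogeneousCore 𝒜).toIdeal = Q := le_antisymm (Ideal.toIdeal_homogeneousCore_le 𝒜 Q)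
    (hQ.2 ⟨Ideal.IsPrime.homogeneousCore hQ.1.1, by
      have h := Ideal.homogeneousCore_mono 𝒜 hQ.1.2
      intro a ha
      exact h (show a ∈ (I.homogeneousCore 𝒜).toIdeal by
        rw [hI.toIdeal_homogeneousCore_eq_self]; exact ha)⟩ (Ideal.toIdeal_homogeneousCore_le 𝒜 Q))
  rw [← h1]
  exact (Q.homogeneousCore 𝒜).isHomogeneous

/-- A point below a given one from a homogeneous prime inside it. -/
def ptOfLe (c : PS) (Q : Ideal S) (hQp : Q.IsPrime) (hQh : Q.IsHomogeneous 𝒜)
    (hle : Q ≤ c.asHomogeneousIdeal.toIdeal) : PS :=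
  mkPt Q hQp hQh fun e => pt_ne c (le_antisymm (pt_le c) (e ▸ hle))

/-- The cone over the closure of a point has one dimension more. -/
lemma dim_succ_eq (x : PS) :
    topologicalKrullDim ↥(closure ({x} : Set PS)) + 1 = ringKrullDim (S ⧸ x.asHomogeneousIdeal.toIdeal) := by
  refine le_antisymm (topDim_succ_le isClosed_closure fun y hy => ?_)
    (le_topDim_succ x.asHomogeneousIdeal.isHomogeneous x.isPrime.ne_top isClosed_closure
      ⟨x, subset_closure rfl⟩ fun y hy => ?_)
  · exact ⟨_, (ProjectiveSpectrum.le_iff_mem_closure 𝒜 x y).2 hy, le_rfl⟩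
  · exact (ProjectiveSpectrum.le_iff_mem_closure 𝒜 x y).1 hy

/-- The dimension formula in a prime quotient of the polynomial ring. -/
lemma height_add_dim {P Q : Ideal S} [P.IsPrime] [Q.IsPrime] (hPQ : P ≤ Q) :
    ((Q.map (Ideal.Quotient.mk P)).height : WithBot ℕ∞) + ringKrullDim (S ⧸ Q) = ringKrullDim (S ⧸ P) := by
  haveI := Ideal.isPrime_map_quotientMk_of_isPrime hPQ
  have h := DimFormula.height_add_ringKrullDim_quotient K (⟨Q.map (Ideal.Quotient.mk P), inferInstance⟩ : PrimeSpectrum (S ⧸ P))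
  rw [ringKrullDim_eq_of_ringEquiv ((DoubleQuot.quotQuotEquivQuotSup P Q).trans
    (Ideal.quotEquivOfEq (sup_eq_right.2 hPQ)))] at h
  exact h

/-- The height of a prime minimal over finitely many elements and `P`, in the quotient by `P`. -/
lemma height_le_card {P Q : Ideal S} {r : ℕ} (f : Fin r → S)
    (hQ : Q ∈ (P ⊔ Ideal.span (Set.range f)).minimalPrimes) :
    (Q.map (Ideal.Quotient.mk P)).height ≤ r := by
  classical
  haveI := hQ.1.1
  have hPQ : P ≤ Q := le_sup_left.trans hQ.1.2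
  haveI := Ideal.isPrime_map_quotientMk_of_isPrime hPQ
  let s : Finset (S ⧸ P) := Finset.univ.image fun i => Ideal.Quotient.mk P (f i)
  have hs : Ideal.span (s : Set (S ⧸ P)) = (P ⊔ Ideal.span (Set.range f)).map (Ideal.Quotient.mk P) := by
    rw [Ideal.map_sup, Ideal.map_quotient_self, bot_sup_eq, Ideal.map_span, ← Set.range_comp,
      Finset.coe_image, Finset.coe_univ, Set.image_univ]
    rfl
  refine (Ideal.height_le_card_of_mem_minimalPrimes_span_finset (s := s) ⟨⟨inferInstance, ?_⟩, ?_⟩).trans ?_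
  · rw [hs]
    exact Ideal.map_mono hQ.1.2
  · intro R hR hle
    have h1 : P ⊔ Ideal.span (Set.range f) ≤ R.comap (Ideal.Quotient.mk P) := by
      rw [← Ideal.map_le_iff_le_comap, ← hs]
      exact hR.2
    haveI := hR.1
    have h2 : R.comap (Ideal.Quotient.mk P) ≤ Q := by
      intro x hx
      rw [← Ideal.mem_quotient_iff_mem hPQ]
      exact hle hx
    have h3 := hQ.2 ⟨inferInstance, h1⟩ h2
    exact (Ideal.map_mono h3).trans Ideal.map_comap_le
  · exact_mod_cast (Finset.card_image_le.trans_eq (Finset.card_fin r))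


/-- The generic point of a component of the intersection with a zero locus. -/
lemma exists_generic {X : Set PS} {f : Set S} {C : Set ↥(X ∩ ProjectiveSpectrum.zeroLocus 𝒜 f)}
    (hXc : IsClosed X) (hC : C ∈ irreducibleComponents ↥(X ∩ ProjectiveSpectrum.zeroLocus 𝒜 f)) :
    ∃ c : PS, c ∈ X ∩ ProjectiveSpectrum.zeroLocus 𝒜 f ∧
      topologicalKrullDim ↥C = topologicalKrullDim ↥(closure ({c} : Set PS)) ∧
      ∀ y ∈ X ∩ ProjectiveSpectrum.zeroLocus 𝒜 f, y ⤳ c → y = c := by
  have hR : IsClosed (X ∩ ProjectiveSpectrum.zeroLocus 𝒜 f) :=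
    hXc.inter (ProjectiveSpectrum.isClosed_zeroLocus 𝒜 f)
  have hCc : IsClosed C := isClosed_of_mem_irreducibleComponents C hC
  have hirr : IsIrreducible (Subtype.val '' C) := hC.1.image _ continuous_subtype_val.continuousOn
  have himgc : IsClosed (Subtype.val '' C) := hR.isClosedEmbedding_subtypeVal.isClosedMap C hCc
  obtain ⟨c, hc⟩ := (quasiSober_iff PS).1 inferInstance hirr himgc
  have hcmem : c ∈ Subtype.val '' C := hc.mem
  obtain ⟨c', hc', rfl⟩ := hcmem
  refine ⟨c', c'.2, ?_, fun y hy hyc => ?_⟩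
  · rw [IsHomeomorph.topologicalKrullDim_eq _
      ((Topology.IsEmbedding.subtypeVal).homeomorphImage C).isHomeomorph]
    congr 2 <;> exact hc.symm
  · let y' : ↥(X ∩ ProjectiveSpectrum.zeroLocus 𝒜 f) := ⟨y, hy⟩
    have hle : C ⊆ closure {y'} := fun w hw => closure_subtype.2 (by
      rw [Set.image_singleton]
      exact (hyc.trans (hc.specializes ⟨w, hw, rfl⟩)).mem_closure)
    exact (hyc.antisymm (hc.specializes ⟨y', hC.2 isIrreducible_singleton.closure hle (subset_closure rfl), rfl⟩)).eq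

/-- The prime of a maximal point of the intersection is minimal over the equations. -/
lemma mem_minimalPrimes {X : Set PS} {f : Set S} (hf : ∀ a ∈ f, ∃ i, a.IsHomogeneous i) {x c : PS}
    (hX : X = closure {x}) (hc : c ∈ X ∩ ProjectiveSpectrum.zeroLocus 𝒜 f)
    (hmax : ∀ y ∈ X ∩ ProjectiveSpectrum.zeroLocus 𝒜 f, y ⤳ c → y = c) :
    c.asHomogeneousIdeal.toIdeal ∈ (x.asHomogeneousIdeal.toIdeal ⊔ Ideal.span f).minimalPrimes := by
  haveI := c.isPrime
  have hxc : x.asHomogeneousIdeal.toIdeal ≤ c.asHomogeneousIdeal.toIdeal :=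
    (ProjectiveSpectrum.le_iff_mem_closure 𝒜 x c).2 (hX ▸ hc.1)
  have hle : x.asHomogeneousIdeal.toIdeal ⊔ Ideal.span f ≤ c.asHomogeneousIdeal.toIdeal :=
    sup_le hxc (Ideal.span_le.2 hc.2)
  obtain ⟨Q, hQ, hQle⟩ := Ideal.exists_minimalPrimes_le hle
  have hI : (x.asHomogeneousIdeal.toIdeal ⊔ Ideal.span f).IsHomogeneous 𝒜 :=
    x.asHomogeneousIdeal.isHomogeneous.sup (Ideal.homogeneous_span 𝒜 _ hf)
  let y := ptOfLe c Q hQ.1.1 (isHomogeneous_of_minimal hI hQ) hQle
  have hy1 : y ∈ X := by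
    rw [hX]
    exact (ProjectiveSpectrum.le_iff_mem_closure 𝒜 x y).1 (le_sup_left.trans hQ.1.2)
  have hy : y ∈ X ∩ ProjectiveSpectrum.zeroLocus 𝒜 f :=
    ⟨hy1, fun a ha => hQ.1.2 (Ideal.mem_sup_right (Ideal.subset_span ha))⟩
  have := hmax y hy (specializes_iff_mem_closure.2 ((ProjectiveSpectrum.le_iff_mem_closure 𝒜 y c).1 hQle))
  rw [← this]
  exact hQ

/-- Cutting by `r` equations drops the dimension of a component by at most `r`. -/
theorem dim_le_component_add {X : Set PS} (hXc : IsClosed X) (hXi : IsIrreducible X) {r : ℕ} (f : Fin r → S)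
    (hf : ∀ i, ∃ d, (f i).IsHomogeneous d)
    {C : Set ↥(X ∩ ProjectiveSpectrum.zeroLocus 𝒜 (Set.range f))}
    (hC : C ∈ irreducibleComponents ↥(X ∩ ProjectiveSpectrum.zeroLocus 𝒜 (Set.range f))) :
    topologicalKrullDim ↥X ≤ topologicalKrullDim ↥C + (r : WithBot ℕ∞) := by
  obtain ⟨x, hx⟩ := (quasiSober_iff PS).1 inferInstance hXi hXc
  have hX : X = closure {x} := hx.symm
  obtain ⟨c, hc, hdim, hmax⟩ := exists_generic hXc hC
  have hf' : ∀ a ∈ Set.range f, ∃ i, a.IsHomogeneous i := by rintro _ ⟨i, rfl⟩; exact hf i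
  have hmin := mem_minimalPrimes hf' hX hc hmax
  haveI := x.isPrime
  haveI := c.isPrime
  have hxc : x.asHomogeneousIdeal.toIdeal ≤ c.asHomogeneousIdeal.toIdeal := le_sup_left.trans hmin.1.2
  have h := height_add_dim hxc
  rw [← dim_succ_eq, ← dim_succ_eq, ← hdim, ← hX] at h
  have h' := add_le_add (a := ((c.asHomogeneousIdeal.toIdeal.map
    (Ideal.Quotient.mk x.asHomogeneousIdeal.toIdeal)).height : WithBot ℕ∞))
    (b := ((r : ℕ∞) : WithBot ℕ∞)) (WithBot.coe_le_coe.2 (height_le_card f hmin))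
    (le_refl (topologicalKrullDim ↥C + 1))
  rw [h, ← add_assoc, add_comm ((r : ℕ∞) : WithBot ℕ∞)] at h'
  exact le_of_add_one (by simpa [add_assoc, add_comm, add_left_comm] using h')

/-- A hypersurface not containing `X` cuts out components of codimension exactly one. -/
theorem component_add_one_eq {X : Set PS} (hXc : IsClosed X) (hXi : IsIrreducible X) (f : S) {d : ℕ}
    (hf : f.IsHomogeneous d) (hX' : ¬ X ⊆ ProjectiveSpectrum.zeroLocus 𝒜 ({f} : Set S))
    {C : Set ↥(X ∩ ProjectiveSpectrum.zeroLocus 𝒜 ({f} : Set S))}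
    (hC : C ∈ irreducibleComponents ↥(X ∩ ProjectiveSpectrum.zeroLocus 𝒜 ({f} : Set S))) :
    topologicalKrullDim ↥C + 1 = topologicalKrullDim ↥X := by
  obtain ⟨x, hx⟩ := (quasiSober_iff PS).1 inferInstance hXi hXc
  have hX : X = closure {x} := hx.symm
  obtain ⟨c, hc, hdim, hmax⟩ := exists_generic hXc hC
  have hf' : ∀ a ∈ ({f} : Set S), ∃ i, a.IsHomogeneous i := by rintro _ rfl; exact ⟨d, hf⟩
  have hmin := mem_minimalPrimes hf' hX hc hmax
  haveI := x.isPrime
  haveI := c.isPrime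
  have hxc : x.asHomogeneousIdeal.toIdeal ≤ c.asHomogeneousIdeal.toIdeal := le_sup_left.trans hmin.1.2
  have hfc : f ∈ c.asHomogeneousIdeal.toIdeal := hc.2 rfl
  have hfx : f ∉ x.asHomogeneousIdeal.toIdeal := fun h => hX' fun y hy => by
    rintro _ rfl
    exact (ProjectiveSpectrum.le_iff_mem_closure 𝒜 x y).2 (hX ▸ hy) h
  haveI := Ideal.isPrime_map_quotientMk_of_isPrime hxc
  have h1 : (c.asHomogeneousIdeal.toIdeal.map (Ideal.Quotient.mk x.asHomogeneousIdeal.toIdeal)).height = 1 := by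
    refine le_antisymm ?_ (Order.one_le_iff_pos.2 (pos_iff_ne_zero.2 fun h0 => hfx ?_))
    · have := height_le_card (fun _ : Fin 1 => f) (P := x.asHomogeneousIdeal.toIdeal)
        (Q := c.asHomogeneousIdeal.toIdeal) (by rwa [Set.range_const])
      simpa using this
    · rw [← Ideal.Quotient.eq_zero_iff_mem]
      have hmem := Ideal.mem_map_of_mem (Ideal.Quotient.mk x.asHomogeneousIdeal.toIdeal) hfc
      have h2 : c.asHomogeneousIdeal.toIdeal.map (Ideal.Quotient.mk x.asHomogeneousIdeal.toIdeal) = ⊥ :=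
        Ideal.height_eq_zero_iff_eq_bot.mp h0
      rwa [h2, Ideal.mem_bot] at hmem
  have h := height_add_dim hxc
  rw [← dim_succ_eq, ← dim_succ_eq, ← hdim, ← hX, h1, WithBot.coe_one, add_comm] at h
  exact le_antisymm (le_of_add_one h.le) (le_of_add_one h.ge)

/-- `r` equations do not miss a subset of dimension at least `r`. -/
theorem nonempty_inter {X : Set PS} (hXc : IsClosed X) (hXi : IsIrreducible X) {r : ℕ} (f : Fin r → S)
    (hf : ∀ i, ∃ d, 0 < d ∧ (f i).IsHomogeneous d) (hr : (r : WithBot ℕ∞) ≤ topologicalKrullDim ↥X) :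
    (X ∩ ProjectiveSpectrum.zeroLocus 𝒜 (Set.range f)).Nonempty := by
  obtain ⟨x, hx⟩ := (quasiSober_iff PS).1 inferInstance hXi hXc
  have hX : X = closure {x} := hx.symm
  haveI := x.isPrime
  let I := x.asHomogeneousIdeal.toIdeal ⊔ Ideal.span (Set.range f)
  have hI : I.IsHomogeneous 𝒜 := x.asHomogeneousIdeal.isHomogeneous.sup
    (Ideal.homogeneous_span 𝒜 _ (by rintro _ ⟨i, rfl⟩; obtain ⟨d, -, hd⟩ := hf i; exact ⟨d, hd⟩))
  have hIM : I ≤ ProjInter.orig K (Fin (m + 1)) := by
    refine sup_le (pt_le x) (Ideal.span_le.2 ?_)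
    rintro _ ⟨i, rfl⟩
    obtain ⟨d, hd0, hd⟩ := hf i
    exact (ProjInter.constantCoeff_mem_orig _).2 (hd.coeff_eq_zero (by simpa using hd0.ne))
  obtain ⟨Q, hQ, hQM⟩ := Ideal.exists_minimalPrimes_le hIM
  haveI := hQ.1.1
  have hxQ : x.asHomogeneousIdeal.toIdeal ≤ Q := le_sup_left.trans hQ.1.2
  have hne : Q ≠ ProjInter.orig K (Fin (m + 1)) := by
    intro e
    have h := height_add_dim hxQ
    rw [← dim_succ_eq x, ← hX] at h
    have h0 : ringKrullDim (S ⧸ Q) = 0 := by
      haveI hQm : Q.IsMaximal := by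
        rw [e]; exact RingHom.ker_isMaximal_of_surjective _ fun a => ⟨C a, constantCoeff_C _ a⟩
      letI := Ideal.Quotient.field Q
      exact ringKrullDim_eq_zero_of_field _
    rw [h0, add_zero] at h
    have h' := (WithBot.coe_le_coe.2 (height_le_card f hQ)).trans hr
    rw [h] at h'
    have hfin : topologicalKrullDim ↥X ≤ (r : WithBot ℕ∞) :=
      (le_add_of_nonneg_right zero_le_one).trans (h ▸ WithBot.coe_le_coe.2 (height_le_card f hQ))
    rw [le_antisymm hfin hr] at h'
    norm_cast at h'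
    omega
  refine ⟨mkPt Q hQ.1.1 (isHomogeneous_of_minimal hI hQ) hne, hX ▸ ?_, fun a ha => ?_⟩
  · exact (ProjectiveSpectrum.le_iff_mem_closure 𝒜 x _).1 hxQ
  · exact hQ.1.2 (Ideal.mem_sup_right (Ideal.subset_span ha))

end Groth.Agent.ProjCut
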