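import Groth.Agent.ProjNoether.AffineCover

/-!
Forms vanishing on a closed subset without common zero on another one outside it.
-/

set_option autoImplicit false
set_option linter.style.haveILetI false

universe u

open CategoryTheory AlgebraicGeometry TopologicalSpace

namespace Groth.Agent.ProjCut

variable {A : Type u} {σ : Type u} [CommRing A] [SetLike σ A] [AddSubgroupClass σ A] {𝒜 : ℕ → σ} [GradedRing 𝒜]

/-- Forms vanishing on `T` without common zero on `s \ T`. -/
theorem exists_forms_vanishing [IsNoetherianRing A] (s T : Set (ProjectiveSpectrum 𝒜)) (hs : IsClosed s)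
    (hT : IsClosed T) (m : ℕ) :
    ∀ W : Set (ProjectiveSpectrum 𝒜), IsClosed W →
      (∀ (l : ℕ) (c : Fin (l + 1) → ProjectiveSpectrum 𝒜), (∀ i, c i ∈ s) → c 0 ∈ W →
        (∀ i : Fin l, c i.castSucc < c i.succ) → l < m) →
      ∃ f : Fin m → A, (∀ i, (∃ e, 0 < e ∧ f i ∈ 𝒜 e) ∧
          f i ∈ (ProjectiveSpectrum.vanishingIdeal T).toIdeal) ∧
        ∀ p ∈ s, p ∈ W → p ∉ T → ∃ i, f i ∉ p.asHomogeneousIdeal := by
  classical
  induction m with
  | zero =>
    intro W _ hc
    exact ⟨Fin.elim0, fun i => i.elim0,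
      fun p hp hpW _ => absurd (hc 0 (fun _ => p) (fun _ => hp) hpW fun i => i.elim0) (lt_irrefl 0)⟩
  | succ m ih =>
    intro W hW hc
    let B := (ProjectiveSpectrum.vanishingIdeal T).toIdeal
    let J := ProjectiveSpectrum.vanishingIdeal (s ∩ W)
    let P := (J.toIdeal.finite_minimalPrimes_of_isNoetherianRing.subset
      (Set.sep_subset J.toIdeal.minimalPrimes fun q =>
        ¬ (HomogeneousIdeal.irrelevant 𝒜).toIdeal ≤ q ∧ ¬ B ≤ q)).toFinset
    obtain ⟨x, e, he, hx, hxB, hxq⟩ := GrAvoid.exists_notMem 𝒜 B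
      (ProjectiveSpectrum.vanishingIdeal _).isHomogeneous P fun q hq => by
        rw [Set.Finite.mem_toFinset] at hq
        exact ⟨hq.1.1.1, hq.2.1, hq.2.2⟩
    obtain ⟨f, hf, hcov⟩ := ih ((W ∩ ProjectiveSpectrum.zeroLocus _ {x}) ∩
        closure ((s ∩ W ∩ ProjectiveSpectrum.zeroLocus _ {x}) \ T))
      ((hW.inter (ProjectiveSpectrum.isClosed_zeroLocus _ _)).inter isClosed_closure) fun l c hmem hc0 hlt => by
      by_contra hl
      -- a chain starting in the closure of the part outside `T` extends downwards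
      have hmem0 : c 0 ∈ closure ((s ∩ W ∩ ProjectiveSpectrum.zeroLocus _ {x}) \ T) := hc0.2
      have hle : J.toIdeal ≤ (c 0).asHomogeneousIdeal.toIdeal := fun g hg =>
        (ProjectiveSpectrum.mem_vanishingIdeal _ g).mp hg _ ⟨hmem 0, hc0.1.1⟩
      haveI := (c 0).isPrime
      by_cases hex : ∃ q ∈ J.toIdeal.minimalPrimes, q ≤ (c 0).asHomogeneousIdeal.toIdeal ∧
          q ≠ (c 0).asHomogeneousIdeal.toIdeal
      · obtain ⟨q, hq, hqc, hqne⟩ := hex
        have hrel : ¬ (HomogeneousIdeal.irrelevant 𝒜).toIdeal ≤ q := fun h' =>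
          (c 0).not_irrelevant_le (h'.trans hqc)
        let qq : ProjectiveSpectrum 𝒜 :=
          ⟨⟨q, ProjNoether.isHomogeneous_minimalPrimes J.isHomogeneous hq⟩, hq.1.1, hrel⟩
        have hqW : qq ∈ s ∩ W := by
          rw [← (hs.inter hW).closure_eq,
            ← ProjectiveSpectrum.zeroLocus_vanishingIdeal_eq_closure, ProjectiveSpectrum.mem_zeroLocus]
          exact hq.1.2
        have hlt0 : qq < c 0 := lt_of_le_of_ne hqc fun e' => hqne (congrArg
          (fun p : ProjectiveSpectrum 𝒜 => p.asHomogeneousIdeal.toIdeal) e')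
        have h2 := hc (l + 1) (Fin.cons qq c) (Fin.cases (by simpa using hqW.1) (by simpa using hmem))
          (by simpa using hqW.2) (by
          refine Fin.cases ?_ ?_
          · simpa using hlt0
          · intro i
            simpa [← Fin.succ_castSucc] using hlt i)
        omega
      · -- otherwise `c 0` is a minimal prime avoided by `x` unless it lies in `T`
        push Not at hex
        obtain ⟨q, hq, hqc⟩ := Ideal.exists_minimalPrimes_le hle
        have hq0 : q = (c 0).asHomogeneousIdeal.toIdeal := hex q hq hqc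
        have hx0 : x ∈ (c 0).asHomogeneousIdeal.toIdeal := Set.singleton_subset_iff.mp hc0.1.2
        have hBc : B ≤ (c 0).asHomogeneousIdeal.toIdeal := by
          by_contra hB
          exact hxq q ((Set.Finite.mem_toFinset _).mpr ⟨hq, fun h => (c 0).not_irrelevant_le (h.trans hqc),
            hq0.symm ▸ hB⟩) (hq0.symm ▸ hx0)
        have hcT : c 0 ∈ T := by
          rw [← hT.closure_eq, ← ProjectiveSpectrum.zeroLocus_vanishingIdeal_eq_closure,
            ProjectiveSpectrum.mem_zeroLocus]
          exact hBc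
        -- the maximal point `c 0` is in the closure, hence in the set itself
        let O : Set (ProjectiveSpectrum 𝒜) :=
          (⋃ q ∈ J.toIdeal.minimalPrimes \ {(c 0).asHomogeneousIdeal.toIdeal},
            ProjectiveSpectrum.zeroLocus 𝒜 (q : Set A))
        have hO : IsClosed O := ((J.toIdeal.finite_minimalPrimes_of_isNoetherianRing).sdiff).isClosed_biUnion
          fun q _ => ProjectiveSpectrum.isClosed_zeroLocus _ _
        have hsub : (s ∩ W ∩ ProjectiveSpectrum.zeroLocus _ {x}) \ T ⊆ O := by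
          rintro p ⟨⟨hpsW, -⟩, hpT⟩
          have hJp : J.toIdeal ≤ p.asHomogeneousIdeal.toIdeal := fun g hg =>
            (ProjectiveSpectrum.mem_vanishingIdeal _ g).mp hg _ hpsW
          haveI := p.isPrime
          obtain ⟨q', hq', hq'p⟩ := Ideal.exists_minimalPrimes_le hJp
          refine Set.mem_biUnion ⟨hq', fun e' => hpT ?_⟩ hq'p
          rw [Set.mem_singleton_iff] at e'
          exact (specializes_iff_mem_closure.mpr ((ProjectiveSpectrum.le_iff_mem_closure _ (c 0) p).mp
            (show (c 0).asHomogeneousIdeal.toIdeal ≤ p.asHomogeneousIdeal.toIdeal from e' ▸ hq'p))).mem_closed hT hcT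
        obtain ⟨q', hq', hq'c⟩ := Set.mem_iUnion₂.mp (closure_minimal hsub hO hmem0)
        exact hq'.2 (hex q' hq'.1 hq'c)
    refine ⟨Fin.cons x f, Fin.cases (by simpa using ⟨⟨e, he, hx⟩, hxB⟩) (by simpa using hf),
      fun p hp hpW hpT => ?_⟩
    by_cases hxp : x ∈ p.asHomogeneousIdeal
    · obtain ⟨i, hi⟩ := hcov p hp ⟨⟨hpW, Set.singleton_subset_iff.mpr hxp⟩,
        subset_closure ⟨⟨⟨hp, hpW⟩, Set.singleton_subset_iff.mpr hxp⟩, hpT⟩⟩ hpT
      exact ⟨i.succ, by simpa using hi⟩
    · exact ⟨0, by simpa using hxp⟩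

end Groth.Agent.ProjCut
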